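import Cfsg.Agent.Lib.J3Unique.Cert.Main.Data

/-! Generated coset-enumeration certificate, case Main: 52326 cosets. -/

set_option autoImplicit false
set_option maxRecDepth 20000
set_option linter.all false
set_option Elab.async false

namespace CfsgLib.J3Unique.Cert.Main

open CfsgLib.SporRecognition.CosetCert

theorem defs_ok_c0 : allPow 67693 (defStep inv fact) 12 0 = true := by decide +kernel
theorem defs_ok_c1 : allPow 67693 (defStep inv fact) 12 4096 = true := by decide +kernel
theorem defs_ok_c2 : allPow 67693 (defStep inv fact) 12 8192 = true := by decide +kernel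
theorem defs_ok_c3 : allPow 67693 (defStep inv fact) 12 12288 = true := by decide +kernel
theorem defs_ok_c4 : allPow 67693 (defStep inv fact) 12 16384 = true := by decide +kernel
theorem defs_ok_c5 : allPow 67693 (defStep inv fact) 12 20480 = true := by decide +kernel
theorem defs_ok_c6 : allPow 67693 (defStep inv fact) 12 24576 = true := by decide +kernel
theorem defs_ok_c7 : allPow 67693 (defStep inv fact) 12 28672 = true := by decide +kernel
theorem defs_ok_c8 : allPow 67693 (defStep inv fact) 12 32768 = true := by decide +kernel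
theorem defs_ok_c9 : allPow 67693 (defStep inv fact) 12 36864 = true := by decide +kernel
theorem defs_ok_c10 : allPow 67693 (defStep inv fact) 12 40960 = true := by decide +kernel
theorem defs_ok_c11 : allPow 67693 (defStep inv fact) 12 45056 = true := by decide +kernel
theorem defs_ok_c12 : allPow 67693 (defStep inv fact) 12 49152 = true := by decide +kernel
theorem defs_ok_c13 : allPow 67693 (defStep inv fact) 12 53248 = true := by decide +kernel
theorem defs_ok_c14 : allPow 67693 (defStep inv fact) 12 57344 = true := by decide +kernel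
theorem defs_ok_c15 : allPow 67693 (defStep inv fact) 12 61440 = true := by decide +kernel
theorem defs_ok_c16 : allPow 67693 (defStep inv fact) 12 65536 = true := by decide +kernel
theorem defs_ok : allBelow 17 67693 (defStep inv fact) = true :=
  allBelow_of_upto (hi := 69632)
    (Upto.trans (mid := 32768) (Upto.trans (mid := 16384) (Upto.trans (mid := 8192) (Upto.trans (mid := 4096) ((Upto.of_pow defs_ok_c0 (Nat.le_refl _)) : Upto _ _ 0 (0 + 2 ^ 12))
    ((Upto.of_pow defs_ok_c1 (Nat.le_refl _)) : Upto _ _ 4096 (4096 + 2 ^ 12)))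
    (Upto.trans (mid := 12288) ((Upto.of_pow defs_ok_c2 (Nat.le_refl _)) : Upto _ _ 8192 (8192 + 2 ^ 12))
    ((Upto.of_pow defs_ok_c3 (Nat.le_refl _)) : Upto _ _ 12288 (12288 + 2 ^ 12))))
    (Upto.trans (mid := 24576) (Upto.trans (mid := 20480) ((Upto.of_pow defs_ok_c4 (Nat.le_refl _)) : Upto _ _ 16384 (16384 + 2 ^ 12))
    ((Upto.of_pow defs_ok_c5 (Nat.le_refl _)) : Upto _ _ 20480 (20480 + 2 ^ 12)))
    (Upto.trans (mid := 28672) ((Upto.of_pow defs_ok_c6 (Nat.le_refl _)) : Upto _ _ 24576 (24576 + 2 ^ 12))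
    ((Upto.of_pow defs_ok_c7 (Nat.le_refl _)) : Upto _ _ 28672 (28672 + 2 ^ 12)))))
    (Upto.trans (mid := 49152) (Upto.trans (mid := 40960) (Upto.trans (mid := 36864) ((Upto.of_pow defs_ok_c8 (Nat.le_refl _)) : Upto _ _ 32768 (32768 + 2 ^ 12))
    ((Upto.of_pow defs_ok_c9 (Nat.le_refl _)) : Upto _ _ 36864 (36864 + 2 ^ 12)))
    (Upto.trans (mid := 45056) ((Upto.of_pow defs_ok_c10 (Nat.le_refl _)) : Upto _ _ 40960 (40960 + 2 ^ 12))
    ((Upto.of_pow defs_ok_c11 (Nat.le_refl _)) : Upto _ _ 45056 (45056 + 2 ^ 12))))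
    (Upto.trans (mid := 57344) (Upto.trans (mid := 53248) ((Upto.of_pow defs_ok_c12 (Nat.le_refl _)) : Upto _ _ 49152 (49152 + 2 ^ 12))
    ((Upto.of_pow defs_ok_c13 (Nat.le_refl _)) : Upto _ _ 53248 (53248 + 2 ^ 12)))
    (Upto.trans (mid := 61440) ((Upto.of_pow defs_ok_c14 (Nat.le_refl _)) : Upto _ _ 57344 (57344 + 2 ^ 12))
    (Upto.trans (mid := 65536) ((Upto.of_pow defs_ok_c15 (Nat.le_refl _)) : Upto _ _ 61440 (61440 + 2 ^ 12))
    ((Upto.of_pow defs_ok_c16 (Nat.le_refl _)) : Upto _ _ 65536 (65536 + 2 ^ 12)))))))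
    (by decide) (by decide)


end CfsgLib.J3Unique.Cert.Main
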