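import Cfsg.Agent.Lib.J3Unique.Cert.Main.Data

/-! Generated coset-enumeration certificate, case Main: 52326 cosets. -/

set_option autoImplicit false
set_option maxRecDepth 20000
set_option linter.all false
set_option Elab.async false

namespace CfsgLib.J3Unique.Cert.Main

open CfsgLib.SporRecognition.CosetCert

theorem final5_c0 : allPow 52326 (finalStep fact node item5 T5 226581 5 52326) 10 0 = true := by decide +kernel
theorem final5_c1 : allPow 52326 (finalStep fact node item5 T5 226581 5 52326) 10 1024 = true := by decide +kernel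
theorem final5_c2 : allPow 52326 (finalStep fact node item5 T5 226581 5 52326) 10 2048 = true := by decide +kernel
theorem final5_c3 : allPow 52326 (finalStep fact node item5 T5 226581 5 52326) 10 3072 = true := by decide +kernel
theorem final5_c4 : allPow 52326 (finalStep fact node item5 T5 226581 5 52326) 10 4096 = true := by decide +kernel
theorem final5_c5 : allPow 52326 (finalStep fact node item5 T5 226581 5 52326) 10 5120 = true := by decide +kernel
theorem final5_c6 : allPow 52326 (finalStep fact node item5 T5 226581 5 52326) 10 6144 = true := by decide +kernel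
theorem final5_c7 : allPow 52326 (finalStep fact node item5 T5 226581 5 52326) 10 7168 = true := by decide +kernel
theorem final5_c8 : allPow 52326 (finalStep fact node item5 T5 226581 5 52326) 10 8192 = true := by decide +kernel
theorem final5_c9 : allPow 52326 (finalStep fact node item5 T5 226581 5 52326) 10 9216 = true := by decide +kernel
theorem final5_c10 : allPow 52326 (finalStep fact node item5 T5 226581 5 52326) 10 10240 = true := by decide +kernel
theorem final5_c11 : allPow 52326 (finalStep fact node item5 T5 226581 5 52326) 10 11264 = true := by decide +kernel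
theorem final5_c12 : allPow 52326 (finalStep fact node item5 T5 226581 5 52326) 10 12288 = true := by decide +kernel
theorem final5_c13 : allPow 52326 (finalStep fact node item5 T5 226581 5 52326) 10 13312 = true := by decide +kernel
theorem final5_c14 : allPow 52326 (finalStep fact node item5 T5 226581 5 52326) 10 14336 = true := by decide +kernel
theorem final5_c15 : allPow 52326 (finalStep fact node item5 T5 226581 5 52326) 10 15360 = true := by decide +kernel
theorem final5_c16 : allPow 52326 (finalStep fact node item5 T5 226581 5 52326) 10 16384 = true := by decide +kernel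
theorem final5_c17 : allPow 52326 (finalStep fact node item5 T5 226581 5 52326) 10 17408 = true := by decide +kernel
theorem final5_c18 : allPow 52326 (finalStep fact node item5 T5 226581 5 52326) 10 18432 = true := by decide +kernel
theorem final5_c19 : allPow 52326 (finalStep fact node item5 T5 226581 5 52326) 10 19456 = true := by decide +kernel
theorem final5_c20 : allPow 52326 (finalStep fact node item5 T5 226581 5 52326) 10 20480 = true := by decide +kernel
theorem final5_c21 : allPow 52326 (finalStep fact node item5 T5 226581 5 52326) 10 21504 = true := by decide +kernel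
theorem final5_c22 : allPow 52326 (finalStep fact node item5 T5 226581 5 52326) 10 22528 = true := by decide +kernel
theorem final5_c23 : allPow 52326 (finalStep fact node item5 T5 226581 5 52326) 10 23552 = true := by decide +kernel
theorem final5_c24 : allPow 52326 (finalStep fact node item5 T5 226581 5 52326) 10 24576 = true := by decide +kernel
theorem final5_c25 : allPow 52326 (finalStep fact node item5 T5 226581 5 52326) 10 25600 = true := by decide +kernel
theorem final5_c26 : allPow 52326 (finalStep fact node item5 T5 226581 5 52326) 10 26624 = true := by decide +kernel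
theorem final5_c27 : allPow 52326 (finalStep fact node item5 T5 226581 5 52326) 10 27648 = true := by decide +kernel
theorem final5_c28 : allPow 52326 (finalStep fact node item5 T5 226581 5 52326) 10 28672 = true := by decide +kernel
theorem final5_c29 : allPow 52326 (finalStep fact node item5 T5 226581 5 52326) 10 29696 = true := by decide +kernel
theorem final5_c30 : allPow 52326 (finalStep fact node item5 T5 226581 5 52326) 10 30720 = true := by decide +kernel
theorem final5_c31 : allPow 52326 (finalStep fact node item5 T5 226581 5 52326) 10 31744 = true := by decide +kernel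
theorem final5_c32 : allPow 52326 (finalStep fact node item5 T5 226581 5 52326) 10 32768 = true := by decide +kernel
theorem final5_c33 : allPow 52326 (finalStep fact node item5 T5 226581 5 52326) 10 33792 = true := by decide +kernel
theorem final5_c34 : allPow 52326 (finalStep fact node item5 T5 226581 5 52326) 10 34816 = true := by decide +kernel
theorem final5_c35 : allPow 52326 (finalStep fact node item5 T5 226581 5 52326) 10 35840 = true := by decide +kernel
theorem final5_c36 : allPow 52326 (finalStep fact node item5 T5 226581 5 52326) 10 36864 = true := by decide +kernel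
theorem final5_c37 : allPow 52326 (finalStep fact node item5 T5 226581 5 52326) 10 37888 = true := by decide +kernel
theorem final5_c38 : allPow 52326 (finalStep fact node item5 T5 226581 5 52326) 10 38912 = true := by decide +kernel
theorem final5_c39 : allPow 52326 (finalStep fact node item5 T5 226581 5 52326) 10 39936 = true := by decide +kernel
theorem final5_c40 : allPow 52326 (finalStep fact node item5 T5 226581 5 52326) 10 40960 = true := by decide +kernel
theorem final5_c41 : allPow 52326 (finalStep fact node item5 T5 226581 5 52326) 10 41984 = true := by decide +kernel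
theorem final5_c42 : allPow 52326 (finalStep fact node item5 T5 226581 5 52326) 10 43008 = true := by decide +kernel
theorem final5_c43 : allPow 52326 (finalStep fact node item5 T5 226581 5 52326) 10 44032 = true := by decide +kernel
theorem final5_c44 : allPow 52326 (finalStep fact node item5 T5 226581 5 52326) 10 45056 = true := by decide +kernel
theorem final5_c45 : allPow 52326 (finalStep fact node item5 T5 226581 5 52326) 10 46080 = true := by decide +kernel
theorem final5_c46 : allPow 52326 (finalStep fact node item5 T5 226581 5 52326) 10 47104 = true := by decide +kernel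
theorem final5_c47 : allPow 52326 (finalStep fact node item5 T5 226581 5 52326) 10 48128 = true := by decide +kernel
theorem final5_c48 : allPow 52326 (finalStep fact node item5 T5 226581 5 52326) 10 49152 = true := by decide +kernel
theorem final5_c49 : allPow 52326 (finalStep fact node item5 T5 226581 5 52326) 10 50176 = true := by decide +kernel
theorem final5_c50 : allPow 52326 (finalStep fact node item5 T5 226581 5 52326) 10 51200 = true := by decide +kernel
theorem final5_c51 : allPow 52326 (finalStep fact node item5 T5 226581 5 52326) 10 52224 = true := by decide +kernel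
theorem final5 : allBelow 16 52326 (finalStep fact node item5 T5 226581 5 52326) = true :=
  allBelow_of_upto (hi := 53248)
    (Upto.trans (mid := 26624) (Upto.trans (mid := 13312) (Upto.trans (mid := 6144) (Upto.trans (mid := 3072) (Upto.trans (mid := 1024) ((Upto.of_pow final5_c0 (Nat.le_refl _)) : Upto _ _ 0 (0 + 2 ^ 10))
    (Upto.trans (mid := 2048) ((Upto.of_pow final5_c1 (Nat.le_refl _)) : Upto _ _ 1024 (1024 + 2 ^ 10))
    ((Upto.of_pow final5_c2 (Nat.le_refl _)) : Upto _ _ 2048 (2048 + 2 ^ 10))))
    (Upto.trans (mid := 4096) ((Upto.of_pow final5_c3 (Nat.le_refl _)) : Upto _ _ 3072 (3072 + 2 ^ 10))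
    (Upto.trans (mid := 5120) ((Upto.of_pow final5_c4 (Nat.le_refl _)) : Upto _ _ 4096 (4096 + 2 ^ 10))
    ((Upto.of_pow final5_c5 (Nat.le_refl _)) : Upto _ _ 5120 (5120 + 2 ^ 10)))))
    (Upto.trans (mid := 9216) (Upto.trans (mid := 7168) ((Upto.of_pow final5_c6 (Nat.le_refl _)) : Upto _ _ 6144 (6144 + 2 ^ 10))
    (Upto.trans (mid := 8192) ((Upto.of_pow final5_c7 (Nat.le_refl _)) : Upto _ _ 7168 (7168 + 2 ^ 10))
    ((Upto.of_pow final5_c8 (Nat.le_refl _)) : Upto _ _ 8192 (8192 + 2 ^ 10))))
    (Upto.trans (mid := 11264) (Upto.trans (mid := 10240) ((Upto.of_pow final5_c9 (Nat.le_refl _)) : Upto _ _ 9216 (9216 + 2 ^ 10))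
    ((Upto.of_pow final5_c10 (Nat.le_refl _)) : Upto _ _ 10240 (10240 + 2 ^ 10)))
    (Upto.trans (mid := 12288) ((Upto.of_pow final5_c11 (Nat.le_refl _)) : Upto _ _ 11264 (11264 + 2 ^ 10))
    ((Upto.of_pow final5_c12 (Nat.le_refl _)) : Upto _ _ 12288 (12288 + 2 ^ 10))))))
    (Upto.trans (mid := 19456) (Upto.trans (mid := 16384) (Upto.trans (mid := 14336) ((Upto.of_pow final5_c13 (Nat.le_refl _)) : Upto _ _ 13312 (13312 + 2 ^ 10))
    (Upto.trans (mid := 15360) ((Upto.of_pow final5_c14 (Nat.le_refl _)) : Upto _ _ 14336 (14336 + 2 ^ 10))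
    ((Upto.of_pow final5_c15 (Nat.le_refl _)) : Upto _ _ 15360 (15360 + 2 ^ 10))))
    (Upto.trans (mid := 17408) ((Upto.of_pow final5_c16 (Nat.le_refl _)) : Upto _ _ 16384 (16384 + 2 ^ 10))
    (Upto.trans (mid := 18432) ((Upto.of_pow final5_c17 (Nat.le_refl _)) : Upto _ _ 17408 (17408 + 2 ^ 10))
    ((Upto.of_pow final5_c18 (Nat.le_refl _)) : Upto _ _ 18432 (18432 + 2 ^ 10)))))
    (Upto.trans (mid := 22528) (Upto.trans (mid := 20480) ((Upto.of_pow final5_c19 (Nat.le_refl _)) : Upto _ _ 19456 (19456 + 2 ^ 10))
    (Upto.trans (mid := 21504) ((Upto.of_pow final5_c20 (Nat.le_refl _)) : Upto _ _ 20480 (20480 + 2 ^ 10))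
    ((Upto.of_pow final5_c21 (Nat.le_refl _)) : Upto _ _ 21504 (21504 + 2 ^ 10))))
    (Upto.trans (mid := 24576) (Upto.trans (mid := 23552) ((Upto.of_pow final5_c22 (Nat.le_refl _)) : Upto _ _ 22528 (22528 + 2 ^ 10))
    ((Upto.of_pow final5_c23 (Nat.le_refl _)) : Upto _ _ 23552 (23552 + 2 ^ 10)))
    (Upto.trans (mid := 25600) ((Upto.of_pow final5_c24 (Nat.le_refl _)) : Upto _ _ 24576 (24576 + 2 ^ 10))
    ((Upto.of_pow final5_c25 (Nat.le_refl _)) : Upto _ _ 25600 (25600 + 2 ^ 10)))))))
    (Upto.trans (mid := 39936) (Upto.trans (mid := 32768) (Upto.trans (mid := 29696) (Upto.trans (mid := 27648) ((Upto.of_pow final5_c26 (Nat.le_refl _)) : Upto _ _ 26624 (26624 + 2 ^ 10))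
    (Upto.trans (mid := 28672) ((Upto.of_pow final5_c27 (Nat.le_refl _)) : Upto _ _ 27648 (27648 + 2 ^ 10))
    ((Upto.of_pow final5_c28 (Nat.le_refl _)) : Upto _ _ 28672 (28672 + 2 ^ 10))))
    (Upto.trans (mid := 30720) ((Upto.of_pow final5_c29 (Nat.le_refl _)) : Upto _ _ 29696 (29696 + 2 ^ 10))
    (Upto.trans (mid := 31744) ((Upto.of_pow final5_c30 (Nat.le_refl _)) : Upto _ _ 30720 (30720 + 2 ^ 10))
    ((Upto.of_pow final5_c31 (Nat.le_refl _)) : Upto _ _ 31744 (31744 + 2 ^ 10)))))
    (Upto.trans (mid := 35840) (Upto.trans (mid := 33792) ((Upto.of_pow final5_c32 (Nat.le_refl _)) : Upto _ _ 32768 (32768 + 2 ^ 10))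
    (Upto.trans (mid := 34816) ((Upto.of_pow final5_c33 (Nat.le_refl _)) : Upto _ _ 33792 (33792 + 2 ^ 10))
    ((Upto.of_pow final5_c34 (Nat.le_refl _)) : Upto _ _ 34816 (34816 + 2 ^ 10))))
    (Upto.trans (mid := 37888) (Upto.trans (mid := 36864) ((Upto.of_pow final5_c35 (Nat.le_refl _)) : Upto _ _ 35840 (35840 + 2 ^ 10))
    ((Upto.of_pow final5_c36 (Nat.le_refl _)) : Upto _ _ 36864 (36864 + 2 ^ 10)))
    (Upto.trans (mid := 38912) ((Upto.of_pow final5_c37 (Nat.le_refl _)) : Upto _ _ 37888 (37888 + 2 ^ 10))
    ((Upto.of_pow final5_c38 (Nat.le_refl _)) : Upto _ _ 38912 (38912 + 2 ^ 10))))))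
    (Upto.trans (mid := 46080) (Upto.trans (mid := 43008) (Upto.trans (mid := 40960) ((Upto.of_pow final5_c39 (Nat.le_refl _)) : Upto _ _ 39936 (39936 + 2 ^ 10))
    (Upto.trans (mid := 41984) ((Upto.of_pow final5_c40 (Nat.le_refl _)) : Upto _ _ 40960 (40960 + 2 ^ 10))
    ((Upto.of_pow final5_c41 (Nat.le_refl _)) : Upto _ _ 41984 (41984 + 2 ^ 10))))
    (Upto.trans (mid := 44032) ((Upto.of_pow final5_c42 (Nat.le_refl _)) : Upto _ _ 43008 (43008 + 2 ^ 10))
    (Upto.trans (mid := 45056) ((Upto.of_pow final5_c43 (Nat.le_refl _)) : Upto _ _ 44032 (44032 + 2 ^ 10))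
    ((Upto.of_pow final5_c44 (Nat.le_refl _)) : Upto _ _ 45056 (45056 + 2 ^ 10)))))
    (Upto.trans (mid := 49152) (Upto.trans (mid := 47104) ((Upto.of_pow final5_c45 (Nat.le_refl _)) : Upto _ _ 46080 (46080 + 2 ^ 10))
    (Upto.trans (mid := 48128) ((Upto.of_pow final5_c46 (Nat.le_refl _)) : Upto _ _ 47104 (47104 + 2 ^ 10))
    ((Upto.of_pow final5_c47 (Nat.le_refl _)) : Upto _ _ 48128 (48128 + 2 ^ 10))))
    (Upto.trans (mid := 51200) (Upto.trans (mid := 50176) ((Upto.of_pow final5_c48 (Nat.le_refl _)) : Upto _ _ 49152 (49152 + 2 ^ 10))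
    ((Upto.of_pow final5_c49 (Nat.le_refl _)) : Upto _ _ 50176 (50176 + 2 ^ 10)))
    (Upto.trans (mid := 52224) ((Upto.of_pow final5_c50 (Nat.le_refl _)) : Upto _ _ 51200 (51200 + 2 ^ 10))
    ((Upto.of_pow final5_c51 (Nat.le_refl _)) : Upto _ _ 52224 (52224 + 2 ^ 10))))))))
    (by decide) (by decide)


end CfsgLib.J3Unique.Cert.Main
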